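/-! Codes of the 320 elements, in normal-form order (generated). -/

set_option autoImplicit false

namespace CfsgLib.OrderThreeTwenty

/-- The codes. -/
def codes : List Nat := [
  256, 2048, 3072, 2560, 3840, 263, 2055, 3079, 2567, 3847, 262, 2054, 3078, 2566, 3846, 257,
  2049, 3073, 2561, 3841, 500, 2292, 3316, 2804, 4084, 499, 2291, 3315, 2803, 4083, 498, 2290,
  3314, 2802, 4082, 501, 2293, 3317, 2805, 4085, 388, 2180, 3204, 2692, 3972, 387, 2179, 3203,
  2691, 3971, 386, 2178, 3202, 2690, 3970, 389, 2181, 3205, 2693, 3973, 380, 2172, 3196, 2684,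
  3964, 379, 2171, 3195, 2683, 3963, 378, 2170, 3194, 2682, 3962, 381, 2173, 3197, 2685, 3965,
  420, 2212, 3236, 2724, 4004, 419, 2211, 3235, 2723, 4003, 418, 2210, 3234, 2722, 4002, 421,
  2213, 3237, 2725, 4005, 351, 2143, 3167, 2655, 3935, 344, 2136, 3160, 2648, 3928, 345, 2137,
  3161, 2649, 3929, 350, 2142, 3166, 2654, 3934, 300, 2092, 3116, 2604, 3884, 299, 2091, 3115,
  2603, 3883, 298, 2090, 3114, 2602, 3882, 301, 2093, 3117, 2605, 3885, 475, 2267, 3291, 2779,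
  4059, 476, 2268, 3292, 2780, 4060, 477, 2269, 3293, 2781, 4061, 474, 2266, 3290, 2778, 4058,
  276, 2068, 3092, 2580, 3860, 275, 2067, 3091, 2579, 3859, 274, 2066, 3090, 2578, 3858, 277,
  2069, 3093, 2581, 3861, 488, 2280, 3304, 2792, 4072, 495, 2287, 3311, 2799, 4079, 494, 2286,
  3310, 2798, 4078, 489, 2281, 3305, 2793, 4073, 415, 2207, 3231, 2719, 3999, 408, 2200, 3224,
  2712, 3992, 409, 2201, 3225, 2713, 3993, 414, 2206, 3230, 2718, 3998, 367, 2159, 3183, 2671,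
  3951, 360, 2152, 3176, 2664, 3944, 361, 2153, 3177, 2665, 3945, 366, 2158, 3182, 2670, 3950,
  444, 2236, 3260, 2748, 4028, 443, 2235, 3259, 2747, 4027, 442, 2234, 3258, 2746, 4026, 445,
  2237, 3261, 2749, 4029, 335, 2127, 3151, 2639, 3919, 328, 2120, 3144, 2632, 3912, 329, 2121,
  3145, 2633, 3913, 334, 2126, 3150, 2638, 3918, 315, 2107, 3131, 2619, 3899, 316, 2108, 3132,
  2620, 3900, 317, 2109, 3133, 2621, 3901, 314, 2106, 3130, 2618, 3898, 452, 2244, 3268, 2756,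
  4036, 451, 2243, 3267, 2755, 4035, 450, 2242, 3266, 2754, 4034, 453, 2245, 3269, 2757, 4037]

end CfsgLib.OrderThreeTwenty
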