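import Mathlib.GroupTheory.GroupAction.Basic
import Mathlib.Tactic

/-!
A normal form for a group of order 320: a special group of order 64 extended by a 5-cycle.
-/

set_option autoImplicit false
set_option linter.unusedVariables false

namespace CfsgLib.OrderThreeTwenty

/-- Exponents. -/
abbrev N := (Bool × Bool × Bool × Bool × Bool × Bool) × Fin 5

/-- The index of the identity. -/
def n0 : N := ((false, false, false, false, false, false), 0)

/-- Left multiplication by the first generator. -/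
def stepA : N → N
  | ((i, j, k, l, m, n), t) => ((!i, j, k, l, xor m i, xor n i), t)

/-- Left multiplication by the element of order five. -/
def stepS : N → N
  | ((i, j, k, l, m, n), t) => ((l, xor i l, xor j l, xor k l, m, xor n (l && xor i k)), t + 1)

section Ops

variable {M : Type*} [Mul M] [One M]

/-- `x ^ b` for a boolean exponent. -/
def bp (x : M) (b : Bool) : M := if b then x else 1

/-- A power with exponent below five. -/
def fp (x : M) : Fin 5 → M
  | ⟨0, _⟩ => 1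
  | ⟨1, _⟩ => x
  | ⟨2, _⟩ => x * x
  | ⟨3, _⟩ => x * (x * x)
  | ⟨4, _⟩ => x * (x * (x * x))

/-- The conjugates of `a`. -/
def cj (a s : M) : Fin 5 → M
  | ⟨0, _⟩ => a
  | ⟨1, _⟩ => fp s 1 * a * fp s 4
  | ⟨2, _⟩ => fp s 2 * a * fp s 3
  | ⟨3, _⟩ => fp s 3 * a * fp s 2
  | ⟨4, _⟩ => fp s 4 * a * fp s 1

/-- The first central involution. -/
def cc1 (a s : M) : M := (cj a s 0 * cj a s 1) * (cj a s 0 * cj a s 1)

/-- The second central involution. -/
def cc2 (a s : M) : M := (cj a s 0 * cj a s 2) * (cj a s 0 * cj a s 2)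

/-- The normal form. -/
def nf (a s : M) : N → M
  | ((i, j, k, l, m, n), t) =>
    bp (cj a s 0) i * (bp (cj a s 1) j * (bp (cj a s 2) k * (bp (cj a s 3) l *
      (bp (cc1 a s) m * (bp (cc2 a s) n * fp s t)))))

/-- The defining relations. -/
def Good (a s : M) : Prop :=
  s * fp s 4 = 1 ∧ a * a = cc1 a s * cc2 a s ∧
  cc1 a s * cc1 a s = 1 ∧ cc2 a s * cc2 a s = 1 ∧
  s * cc1 a s = cc1 a s * s ∧ s * cc2 a s = cc2 a s * s ∧
  a * cc1 a s = cc1 a s * a ∧ a * cc2 a s = cc2 a s * a ∧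
  cj a s 0 * cj a s 1 * cj a s 2 * cj a s 3 = cj a s 4 ∧
  cj a s 1 * cj a s 0 = cj a s 0 * cj a s 1 * cc1 a s ∧
  cj a s 2 * cj a s 0 = cj a s 0 * cj a s 2 * cc2 a s ∧
  cj a s 3 * cj a s 0 = cj a s 0 * cj a s 3 * cc2 a s ∧
  cj a s 2 * cj a s 1 = cj a s 1 * cj a s 2 * cc1 a s ∧
  cj a s 3 * cj a s 1 = cj a s 1 * cj a s 3 * cc2 a s ∧
  cj a s 3 * cj a s 2 = cj a s 2 * cj a s 3 * cc1 a s

end Ops

variable {G : Type*} [Group G]

theorem nf_n0 (a s : G) : nf a s n0 = 1 := by
  show bp _ false * (bp _ false * (bp _ false * (bp _ false * (bp _ false * (bp _ false * 1))))) = 1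
  simp [bp]

theorem fp_eq_pow (s : G) : ∀ t : Fin 5, fp s t = s ^ (t : ℕ) := by
  intro t
  fin_cases t <;> simp [fp, pow_succ, mul_assoc]

theorem left_mul {a s : G} (h : Good a s) (v : N) :
    a * nf a s v = nf a s (stepA v) ∧ s * nf a s v = nf a s (stepS v) := by
  obtain ⟨h5, hsq, d1, d2, sc1, sc2, ac1, ac2, hprod, r10, r20, r30, r21, r31, r32⟩ := h
  have hs5 : s ^ 5 = 1 := by
    rw [← h5, fp_eq_pow, ← pow_succ']; rfl
  set X0 := cj a s 0 with hX0
  set X1 := cj a s 1 with hX1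
  set X2 := cj a s 2 with hX2
  set X3 := cj a s 3 with hX3
  set X4 := cj a s 4 with hX4
  set C1 := cc1 a s with hC1
  set C2 := cc2 a s with hC2
  have ea : a = X0 := rfl
  -- `s` shifts the conjugates
  have f4 : fp s 4 = s⁻¹ := (inv_eq_of_mul_eq_one_right h5).symm
  have g4 : s * (s * (s * s)) = s⁻¹ := f4
  have e1 : s * X0 = X1 * s := by
    show s * a = fp s 1 * a * fp s 4 * s
    rw [f4, inv_mul_cancel_right]; rfl
  have e2 : s * X1 = X2 * s := by
    show s * (fp s 1 * a * fp s 4) = fp s 2 * a * fp s 3 * s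
    simp only [fp, mul_assoc]
  have e3 : s * X2 = X3 * s := by
    show s * (fp s 2 * a * fp s 3) = fp s 3 * a * fp s 2 * s
    simp only [fp, mul_assoc]
  have e4 : s * X3 = X0 * (X1 * (X2 * (X3 * s))) := by
    rw [show X0 * (X1 * (X2 * (X3 * s))) = (X0 * X1 * X2 * X3) * s by simp only [mul_assoc], hprod]
    show s * (fp s 3 * a * fp s 2) = fp s 4 * a * fp s 1 * s
    simp only [fp, mul_assoc]
  have s0 : X0 * X0 = C1 * C2 := hsq
  have scm : Commute s (C1 * C2) := Commute.mul_right sc1 sc2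
  have hsh : ∀ x y : G, s * x = y * s → ∀ z, Commute s z → x * x = z → y * y = z := by
    intro x y hxy z hz hx
    have hy : y = s * x * s⁻¹ := by rw [hxy, mul_inv_cancel_right]
    rw [hy, show s * x * s⁻¹ * (s * x * s⁻¹) = s * (x * x) * s⁻¹ by group, hx, hz.eq,
      mul_inv_cancel_right]
  have s1 : X1 * X1 = C1 * C2 := hsh X0 X1 e1 _ scm s0
  have s2 : X2 * X2 = C1 * C2 := hsh X1 X2 e2 _ scm s1
  have s3 : X3 * X3 = C1 * C2 := hsh X2 X3 e3 _ scm s2
  have hcen : ∀ c : G, s * c = c * s → a * c = c * a →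
      X0 * c = c * X0 ∧ X1 * c = c * X1 ∧ X2 * c = c * X2 ∧ X3 * c = c * X3 := by
    intro c hcs hca
    have hs : ∀ t, Commute (fp s t) c := fun t => by
      rw [fp_eq_pow]; exact Commute.pow_left hcs _
    exact ⟨hca, (((hs 1).mul_left hca).mul_left (hs 4)), (((hs 2).mul_left hca).mul_left (hs 3)),
      (((hs 3).mul_left hca).mul_left (hs 2))⟩
  obtain ⟨p10, p11, p12, p13⟩ := hcen C1 sc1 ac1
  obtain ⟨p20, p21, p22, p23⟩ := hcen C2 sc2 ac2
  have c12 : C2 * C1 = C1 * C2 := by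
    show C2 * ((X0 * X1) * (X0 * X1)) = ((X0 * X1) * (X0 * X1)) * C2
    have : Commute C2 (X0 * X1) := Commute.mul_right p20.symm p21.symm
    exact (this.mul_right this).eq
  -- tailed forms
  have T : ∀ {x y z : G}, x * y = z → ∀ w, x * (y * w) = z * w := fun h w => by rw [← mul_assoc, h]
  have R10 : ∀ w, X1 * (X0 * w) = X0 * (X1 * (C1 * w)) := fun w => by rw [T r10]; simp only [mul_assoc]
  have R20 : ∀ w, X2 * (X0 * w) = X0 * (X2 * (C2 * w)) := fun w => by rw [T r20]; simp only [mul_assoc]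
  have R30 : ∀ w, X3 * (X0 * w) = X0 * (X3 * (C2 * w)) := fun w => by rw [T r30]; simp only [mul_assoc]
  have R21 : ∀ w, X2 * (X1 * w) = X1 * (X2 * (C1 * w)) := fun w => by rw [T r21]; simp only [mul_assoc]
  have R31 : ∀ w, X3 * (X1 * w) = X1 * (X3 * (C2 * w)) := fun w => by rw [T r31]; simp only [mul_assoc]
  have R32 : ∀ w, X3 * (X2 * w) = X2 * (X3 * (C1 * w)) := fun w => by rw [T r32]; simp only [mul_assoc]
  have S0 : ∀ w, X0 * (X0 * w) = C1 * (C2 * w) := fun w => by rw [T s0]; simp only [mul_assoc]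
  have S1 : ∀ w, X1 * (X1 * w) = C1 * (C2 * w) := fun w => by rw [T s1]; simp only [mul_assoc]
  have S2 : ∀ w, X2 * (X2 * w) = C1 * (C2 * w) := fun w => by rw [T s2]; simp only [mul_assoc]
  have S3 : ∀ w, X3 * (X3 * w) = C1 * (C2 * w) := fun w => by rw [T s3]; simp only [mul_assoc]
  have P10 : ∀ w, C1 * (X0 * w) = X0 * (C1 * w) := fun w => by rw [T p10.symm]; simp only [mul_assoc]
  have P11 : ∀ w, C1 * (X1 * w) = X1 * (C1 * w) := fun w => by rw [T p11.symm]; simp only [mul_assoc]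
  have P12 : ∀ w, C1 * (X2 * w) = X2 * (C1 * w) := fun w => by rw [T p12.symm]; simp only [mul_assoc]
  have P13 : ∀ w, C1 * (X3 * w) = X3 * (C1 * w) := fun w => by rw [T p13.symm]; simp only [mul_assoc]
  have P20 : ∀ w, C2 * (X0 * w) = X0 * (C2 * w) := fun w => by rw [T p20.symm]; simp only [mul_assoc]
  have P21 : ∀ w, C2 * (X1 * w) = X1 * (C2 * w) := fun w => by rw [T p21.symm]; simp only [mul_assoc]
  have P22 : ∀ w, C2 * (X2 * w) = X2 * (C2 * w) := fun w => by rw [T p22.symm]; simp only [mul_assoc]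
  have P23 : ∀ w, C2 * (X3 * w) = X3 * (C2 * w) := fun w => by rw [T p23.symm]; simp only [mul_assoc]
  have D1 : ∀ w, C1 * (C1 * w) = w := fun w => by rw [T d1, one_mul]
  have D2 : ∀ w, C2 * (C2 * w) = w := fun w => by rw [T d2, one_mul]
  have Q : ∀ w, C2 * (C1 * w) = C1 * (C2 * w) := fun w => by rw [T c12]; simp only [mul_assoc]
  have E1 : ∀ w, s * (X0 * w) = X1 * (s * w) := fun w => by rw [T e1]; simp only [mul_assoc]
  have E2 : ∀ w, s * (X1 * w) = X2 * (s * w) := fun w => by rw [T e2]; simp only [mul_assoc]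
  have E3 : ∀ w, s * (X2 * w) = X3 * (s * w) := fun w => by rw [T e3]; simp only [mul_assoc]
  have E4 : ∀ w, s * (X3 * w) = X0 * (X1 * (X2 * (X3 * (s * w)))) := fun w => by
    rw [T e4]; simp only [mul_assoc]
  have F1 : ∀ w, s * (C1 * w) = C1 * (s * w) := fun w => by rw [T sc1]; simp only [mul_assoc]
  have F2 : ∀ w, s * (C2 * w) = C2 * (s * w) := fun w => by rw [T sc2]; simp only [mul_assoc]
  obtain ⟨⟨i, j, k, l, m, n⟩, t⟩ := v
  have hFt : s * fp s t = fp s (t + 1) := by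
    rw [fp_eq_pow, fp_eq_pow, ← pow_succ']
    fin_cases t <;> simp [hs5, Fin.val_add] <;> exact hs5
  constructor
  · show a * (bp X0 i * (bp X1 j * (bp X2 k * (bp X3 l * (bp C1 m * (bp C2 n * fp s t)))))) =
      bp X0 (!i) * (bp X1 j * (bp X2 k * (bp X3 l * (bp C1 (xor m i) * (bp C2 (xor n i) * fp s t)))))
    rw [ea]
    cases i <;> cases j <;> cases k <;> cases l <;> cases m <;> cases n <;>
      simp only [bp, Bool.false_eq_true, if_true, if_false, one_mul, Bool.not_true, Bool.not_false,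
        Bool.xor_false, Bool.xor_true, Bool.false_xor, Bool.true_xor,
        S0, P10, P11, P12, P13, P20, P21, P22, P23, D1, D2, Q]
  · show s * (bp X0 i * (bp X1 j * (bp X2 k * (bp X3 l * (bp C1 m * (bp C2 n * fp s t)))))) =
      bp X0 l * (bp X1 (xor i l) * (bp X2 (xor j l) * (bp X3 (xor k l) *
        (bp C1 m * (bp C2 (xor n (l && xor i k)) * fp s (t + 1))))))
    rw [← hFt]
    cases i <;> cases j <;> cases k <;> cases l <;> cases m <;> cases n <;>
      simp only [bp, Bool.false_eq_true, if_true, if_false, one_mul, Bool.not_true, Bool.not_false,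
        Bool.xor_false, Bool.xor_true, Bool.false_xor, Bool.true_xor, Bool.and_false, Bool.and_true,
        Bool.false_and, Bool.true_and,
        R10, R20, R30, R21, R31, R32, S0, S1, S2, S3, P10, P11, P12, P13, P20, P21, P22, P23,
        D1, D2, Q, E1, E2, E3, E4, F1, F2]

/-- Two groups with the same normal form. -/
theorem exists_hom {H : Type*} [Group H] {a s : G} {a' s' : H} (h : Good a s) (h' : Good a' s')
    (hf : Function.Bijective (nf a s)) (hf' : Function.Injective (nf a' s')) :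
    ∃ φ : G →* H, Function.Injective φ ∧ ∀ x : H, x ∈ φ.range ↔ ∃ v, nf a' s' v = x := by
  let e : N ≃ G := Equiv.ofBijective _ hf
  let φ : G → H := fun g => nf a' s' (e.symm g)
  have hφ : ∀ v, φ (nf a s v) = nf a' s' v := fun v => congrArg (nf a' s') (e.symm_apply_apply v)
  have h1 : φ 1 = 1 := by rw [← nf_n0 a s, hφ, nf_n0]
  have ha : ∀ g, φ (a * g) = a' * φ g := fun g => by
    obtain ⟨v, rfl⟩ := hf.2 g
    rw [(left_mul h v).1, hφ, hφ, (left_mul h' v).1]
  have hs : ∀ g, φ (s * g) = s' * φ g := fun g => by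
    obtain ⟨v, rfl⟩ := hf.2 g
    rw [(left_mul h v).2, hφ, hφ, (left_mul h' v).2]
  let K : Submonoid G :=
    { carrier := {x | ∀ g, φ (x * g) = φ x * φ g}
      one_mem' := fun g => by rw [one_mul, h1, one_mul]
      mul_mem' := fun {x y} hx hy g => by rw [mul_assoc, hx, hy, hx y, mul_assoc] }
  have Ka : a ∈ K := fun g => by
    have e0 := ha 1
    rw [mul_one, h1, mul_one] at e0
    rw [ha, e0]
  have Ks : s ∈ K := fun g => by
    have e0 := hs 1
    rw [mul_one, h1, mul_one] at e0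
    rw [hs, e0]
  have Kf : ∀ t, fp s t ∈ K := fun t => by rw [fp_eq_pow]; exact pow_mem Ks _
  have Kc : ∀ i, cj a s i ∈ K := by
    intro i
    fin_cases i
    · exact Ka
    all_goals exact mul_mem (mul_mem (Kf _) Ka) (Kf _)
  have Kb : ∀ x ∈ K, ∀ b, bp x b ∈ K := fun x hx b => by
    cases b
    · exact one_mem _
    · exact hx
  have all : ∀ x : G, x ∈ K := fun x => by
    obtain ⟨⟨⟨i, j, k, l, m, n⟩, t⟩, rfl⟩ := hf.2 x
    exact mul_mem (Kb _ (Kc 0) _) (mul_mem (Kb _ (Kc 1) _) (mul_mem (Kb _ (Kc 2) _)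
      (mul_mem (Kb _ (Kc 3) _) (mul_mem (Kb _ (mul_mem (mul_mem (Kc 0) (Kc 1)) (mul_mem (Kc 0) (Kc 1))) _)
      (mul_mem (Kb _ (mul_mem (mul_mem (Kc 0) (Kc 2)) (mul_mem (Kc 0) (Kc 2))) _) (Kf t))))))
  refine ⟨MonoidHom.mk' φ fun x y => all x y, fun x y hxy => e.symm.injective (hf' hxy), fun x => ?_⟩
  constructor
  · rintro ⟨g, rfl⟩; exact ⟨e.symm g, rfl⟩
  · rintro ⟨v, rfl⟩; exact ⟨nf a s v, hφ v⟩

end CfsgLib.OrderThreeTwenty
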