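import Mathlib
import Cfsg.Agent.OrderThreeTwenty.Normal

/-!
A group of order 320 with derived subgroup of order 64 with four-group centre has the normal form.
-/

set_option autoImplicit false
set_option linter.unusedVariables false

open scoped commutatorElement

namespace CfsgLib.OrderThreeTwenty

theorem fixed_of_small {α : Type*} [Finite α] (f : α → α) (h5 : ∀ x, f (f (f (f (f x)))) = x)
    (hα : Nat.card α ≤ 4) (x : α) : f x = x := by
  classical
  haveI := Fintype.ofFinite α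
  rw [Nat.card_eq_fintype_card] at hα
  let g : Fin 5 → α := fun i => f^[i] x
  obtain ⟨i, j, hij, he⟩ := Fintype.exists_ne_map_eq_of_card_lt g (by simp; omega)
  have hp : Function.IsPeriodicPt f 5 x := h5 x
  wlog hlt : (i : ℕ) < j generalizing i j
  · exact this j i hij.symm he.symm (lt_of_le_of_ne (not_lt.mp hlt) (fun h => hij (Fin.ext h.symm)))
  have hd : Function.IsPeriodicPt f ((j : ℕ) - i) x := by
    have e : f^[5 - (i : ℕ)] (g i) = f^[5 - (i : ℕ)] (g j) := congrArg _ he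
    simp only [g, ← Function.iterate_add_apply] at e
    rw [show 5 - (i : ℕ) + i = 5 by omega, show 5 - (i : ℕ) + j = ((j : ℕ) - i) + 5 by omega,
      Function.iterate_add_apply f ((j : ℕ) - i), show f^[5] x = x from hp] at e
    exact e.symm
  have h1 := hp.gcd hd
  have : Nat.gcd 5 ((j : ℕ) - i) = 1 :=
    (Nat.Prime.coprime_iff_not_dvd (by norm_num : Nat.Prime 5)).mpr (fun h => by
      have := Nat.le_of_dvd (by omega) h; omega)
  rw [this] at h1
  exact h1

/-- A fixed-point-free element of order five acting on a normal subgroup of order 16. -/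
theorem sixteen {V : Type*} [Group V] [Finite V] (N : Subgroup V) [N.Normal] (σ : V) (hσ : σ ^ 5 = 1)
    (hN : Nat.card N = 16) (hgen : N ⊔ Subgroup.zpowers σ = ⊤) (hcom : N ≤ commutator V) :
    (∀ x ∈ N, σ * x * σ⁻¹ = x → x = 1) ∧ (∀ x ∈ N, x * x = 1) ∧
      (∀ x ∈ N, ∀ y ∈ N, x * y = y * x) ∧
      ∀ S : Subgroup V, S ≤ N → (∃ x ∈ S, x ≠ 1) → (∀ x ∈ S, σ * x * σ⁻¹ ∈ S) → S = N := by
  classical
  haveI : Fact (Nat.Prime 2) := ⟨Nat.prime_two⟩
  haveI : Fact (Nat.Prime 5) := ⟨by norm_num⟩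
  have hP : IsPGroup 5 (Subgroup.zpowers σ) := fun g => ⟨1, by
    obtain ⟨k, hk⟩ := Subgroup.mem_zpowers_iff.mp g.2
    apply Subtype.ext
    rw [pow_one, SubgroupClass.coe_pow, ← hk, ← zpow_natCast, ← zpow_mul, mul_comm, zpow_mul,
      zpow_natCast, hσ, one_zpow]; rfl⟩
  -- invariant subgroups are congruent to their fixed points
  have key : ∀ S : Subgroup V, (∀ x ∈ S, σ * x * σ⁻¹ ∈ S) → Nat.card S ≡
      Nat.card (S ⊓ Subgroup.centralizer ({σ} : Set V) : Subgroup V) [MOD 5] := by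
    intro S hS
    have hPn : Subgroup.zpowers σ ≤ Subgroup.normalizer (S : Set V) :=
      Subgroup.zpowers_le.mpr (Subgroup.mem_normalizer_fintype hS)
    letI : MulAction (Subgroup.zpowers σ) S :=
      { smul := fun g x => ⟨(g : V) * x * (g : V)⁻¹, (Subgroup.mem_normalizer_iff.mp (hPn g.2) x).mp x.2⟩
        one_smul := fun x => Subtype.ext (by
          show ((1 : Subgroup.zpowers σ) : V) * x * ((1 : Subgroup.zpowers σ) : V)⁻¹ = x
          simp)
        mul_smul := fun g h x => Subtype.ext (by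
          show ((g * h : Subgroup.zpowers σ) : V) * x * ((g * h : Subgroup.zpowers σ) : V)⁻¹ =
            (g : V) * ((h : V) * x * (h : V)⁻¹) * (g : V)⁻¹
          rw [Subgroup.coe_mul]; group) }
    have e : MulAction.fixedPoints (Subgroup.zpowers σ) S ≃
        (S ⊓ Subgroup.centralizer ({σ} : Set V) : Subgroup V) :=
      { toFun := fun x => ⟨((x : S) : V), (x : S).2, Subgroup.mem_centralizer_singleton_iff.mpr (by
          have h : σ * ((x : S) : V) * σ⁻¹ = (x : S) :=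
            congrArg Subtype.val (x.2 ⟨σ, Subgroup.mem_zpowers σ⟩)
          exact (mul_inv_eq_iff_eq_mul.mp h).symm)⟩
        invFun := fun x => ⟨⟨(x : V), x.2.1⟩, fun g => Subtype.ext (by
          obtain ⟨k, hk⟩ := Subgroup.mem_zpowers_iff.mp g.2
          show (g : V) * x * (g : V)⁻¹ = x
          have hc : Commute (x : V) σ := Subgroup.mem_centralizer_singleton_iff.mp x.2.2
          rw [← hk, ← (hc.zpow_right k).eq, mul_inv_cancel_right])⟩
        left_inv := fun x => rfl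
        right_inv := fun x => rfl }
    exact (hP.card_modEq_card_fixedPoints S).trans (by rw [Nat.card_congr e])
  have hsmall : ∀ S : Subgroup V, S ≤ N → Nat.card S ≡ 1 [MOD 5] → Nat.card S = 1 ∨ Nat.card S = 16 := by
    intro S hS h1
    have hd : Nat.card S ∣ 2 ^ 4 := (Subgroup.card_dvd_of_le hS).trans (by rw [hN]; norm_num)
    obtain ⟨k, hk, e⟩ := (Nat.dvd_prime_pow Nat.prime_two).mp hd
    rw [e] at h1 ⊢
    interval_cases k <;> simp_all [Nat.ModEq]
  have hC : (N ⊓ Subgroup.centralizer ({σ} : Set V) : Subgroup V) = ⊥ := by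
    have h1 : Nat.card (N ⊓ Subgroup.centralizer ({σ} : Set V) : Subgroup V) ≡ 1 [MOD 5] := by
      have := (key N fun x hx => (inferInstance : N.Normal).conj_mem x hx σ).symm
      rw [hN] at this
      exact this
    rcases hsmall _ inf_le_left h1 with h | h
    · exact Subgroup.card_eq_one.mp h
    exfalso
    have heq : (N ⊓ Subgroup.centralizer ({σ} : Set V) : Subgroup V) = N :=
      Subgroup.eq_of_le_of_card_ge inf_le_left (by rw [h, hN])
    have hcs : ∀ n ∈ N, Commute σ n := fun n hn =>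
      (Subgroup.mem_centralizer_singleton_iff.mp (heq.ge hn).2).symm
    set D := (commutator N).map N.subtype with hD
    have hle : commutator V ≤ D := by
      rw [commutator_eq_closure, Subgroup.closure_le]
      rintro _ ⟨x, y, rfl⟩
      obtain ⟨n, hn, p, hp, rfl⟩ := Subgroup.mem_sup_of_normal_left.mp (hgen.ge (Subgroup.mem_top x))
      obtain ⟨m, hm, q, hq, rfl⟩ := Subgroup.mem_sup_of_normal_left.mp (hgen.ge (Subgroup.mem_top y))
      obtain ⟨i, rfl⟩ := Subgroup.mem_zpowers_iff.mp hp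
      obtain ⟨j, rfl⟩ := Subgroup.mem_zpowers_iff.mp hq
      have ci : Commute (σ ^ i) m := (hcs m hm).zpow_left i
      have cj' : Commute (σ ^ j) n⁻¹ := ((hcs n hn).inv_right).zpow_left j
      have : ⁅n * σ ^ i, m * σ ^ j⁆ = ⁅n, m⁆ := by
        simp only [commutatorElement_def, mul_inv_rev]
        calc n * σ ^ i * (m * σ ^ j) * ((σ ^ i)⁻¹ * n⁻¹) * ((σ ^ j)⁻¹ * m⁻¹)
            = n * (σ ^ i * m) * (σ ^ j * (σ ^ i)⁻¹) * n⁻¹ * ((σ ^ j)⁻¹ * m⁻¹) := by group
          _ = n * (m * σ ^ i) * ((σ ^ i)⁻¹ * σ ^ j) * n⁻¹ * ((σ ^ j)⁻¹ * m⁻¹) := by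
              rw [ci.eq, ((Commute.refl σ).zpow_zpow j i).inv_right.eq]
          _ = n * m * (σ ^ j * n⁻¹) * ((σ ^ j)⁻¹ * m⁻¹) := by group
          _ = n * m * (n⁻¹ * σ ^ j) * ((σ ^ j)⁻¹ * m⁻¹) := by rw [cj'.eq]
          _ = n * m * n⁻¹ * m⁻¹ := by group
      rw [this]
      exact ⟨⁅(⟨n, hn⟩ : N), ⟨m, hm⟩⁆, Subgroup.commutator_mem_commutator (Subgroup.mem_top _)
        (Subgroup.mem_top _), by simp [commutatorElement_def]⟩
    haveI : Nontrivial N := Finite.one_lt_card_iff_nontrivial.mp (by omega)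
    haveI : Group.IsNilpotent N := (IsPGroup.of_card (p := 2) (n := 4) (by rw [hN]; norm_num)).isNilpotent
    have hlt := IsSolvable.commutator_lt_top_of_nontrivial (G := N)
    refine hlt.ne (top_le_iff.mp fun z _ => ?_)
    obtain ⟨w, hw, hwz⟩ := (hcom.trans hle) z.2
    exact Subtype.ext hwz ▸ hw
  have hfix : ∀ x ∈ N, σ * x * σ⁻¹ = x → x = 1 := fun x hx h => by
    refine Subgroup.mem_bot.mp (hC ▸ ⟨hx, Subgroup.mem_centralizer_singleton_iff.mpr ?_⟩)
    exact (mul_inv_eq_iff_eq_mul.mp h).symm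
  have hinv : ∀ S : Subgroup V, S ≤ N → (∃ x ∈ S, x ≠ 1) → (∀ x ∈ S, σ * x * σ⁻¹ ∈ S) → S = N := by
    intro S hS ⟨x, hx, hx1⟩ hσS
    have h1 := key S hσS
    rw [show (S ⊓ Subgroup.centralizer ({σ} : Set V) : Subgroup V) = ⊥ from
      le_bot_iff.mp ((inf_le_inf_right _ hS).trans hC.le), Subgroup.card_bot] at h1
    rcases hsmall S hS h1 with h | h
    · exact absurd (Subgroup.mem_bot.mp (Subgroup.card_eq_one.mp h ▸ hx)) hx1
    · exact Subgroup.eq_of_le_of_card_ge hS (by rw [h, hN])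
  -- the centre is invariant and nontrivial
  haveI : Nontrivial N := Finite.one_lt_card_iff_nontrivial.mp (by omega)
  have hpN : IsPGroup 2 N := IsPGroup.of_card (n := 4) (by rw [hN]; norm_num)
  haveI := hpN.center_nontrivial
  obtain ⟨z, hz⟩ := exists_ne (1 : Subgroup.center N)
  have hz1 : ((z : N) : V) ≠ 1 := fun h => hz (Subtype.ext (Subtype.ext h))
  have hab : ∀ x ∈ N, ∀ y ∈ N, x * y = y * x := by
    have hcn : (Subgroup.center N).map N.subtype = N :=
      hinv _ (Subgroup.map_subtype_le _) ⟨_, ⟨(z : N), z.2, rfl⟩, hz1⟩ (by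
        rintro _ ⟨w, hw, rfl⟩
        refine ⟨⟨σ * w * σ⁻¹, (inferInstance : N.Normal).conj_mem _ w.2 σ⟩,
          Subgroup.mem_center_iff.mpr fun g => Subtype.ext ?_, rfl⟩
        have h := congrArg (fun t : N => σ * (t : V) * σ⁻¹) (Subgroup.mem_center_iff.mp hw
          ⟨σ⁻¹ * g * σ, by simpa using (inferInstance : N.Normal).conj_mem _ g.2 σ⁻¹⟩)
        simp only [Subgroup.coe_mul, mul_assoc, mul_inv_cancel_left, mul_inv_cancel, mul_one] at h ⊢
        simpa [mul_assoc] using h)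
    intro x hx y hy
    obtain ⟨w, hw, rfl⟩ := hcn.ge hx
    exact (congrArg Subtype.val (Subgroup.mem_center_iff.mp hw ⟨y, hy⟩)).symm
  refine ⟨hfix, ?_, hab, hinv⟩
  let Ω : Subgroup V :=
    { carrier := {x | x ∈ N ∧ x * x = 1}
      one_mem' := ⟨N.one_mem, mul_one 1⟩
      mul_mem' := fun {x y} hx hy => ⟨N.mul_mem hx.1 hy.1, by
        rw [show x * y * (x * y) = x * (y * x) * y by group, hab y hy.1 x hx.1]
        calc x * (x * y) * y = (x * x) * (y * y) := by group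
          _ = 1 := by rw [hx.2, hy.2, one_mul]⟩
      inv_mem' := fun {x} hx => ⟨N.inv_mem hx.1, by rw [← mul_inv_rev, hx.2, inv_one]⟩ }
  obtain ⟨t, ht⟩ := exists_prime_orderOf_dvd_card' (G := N) 2 (by rw [hN]; norm_num)
  have hΩ : Ω = N := hinv Ω (fun x hx => hx.1)
    ⟨(t : V), ⟨t.2, by
      have := congrArg Subtype.val (pow_orderOf_eq_one t)
      rwa [ht, sq] at this⟩, fun h => by
        have : t = 1 := Subtype.ext h
        rw [this, orderOf_one] at ht; norm_num at ht⟩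
    (fun x hx => ⟨(inferInstance : N.Normal).conj_mem _ hx.1 σ, by
      rw [show σ * x * σ⁻¹ * (σ * x * σ⁻¹) = σ * (x * x) * σ⁻¹ by group, hx.2, mul_one,
        mul_inv_cancel]⟩)
  exact fun x hx => (hΩ.ge hx).2

theorem exists_normal_form {G : Type*} [Group G] [Finite G] (hG : Nat.card G = 320)
    (hD : Nat.card (commutator G) = 64) (hZ : IsKleinFour (Subgroup.center (commutator G))) :
    ∃ a s : G, Good a s ∧ Function.Bijective (nf a s) := by
  classical
  haveI : Fact (Nat.Prime 5) := ⟨by norm_num⟩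
  set P := commutator G with hPdef
  set Z := (Subgroup.center P).map P.subtype with hZdef
  haveI hZn : Z.Normal := ConjAct.normal_of_characteristic_of_normal
  have hZc : Nat.card Z = 4 := by
    rw [hZdef, Subgroup.card_map_of_injective P.subtype_injective]; exact IsKleinFour.card_four
  have hZP : Z ≤ P := Subgroup.map_subtype_le _
  have hZ2 : ∀ z ∈ Z, z * z = 1 := by
    rintro _ ⟨w, hw, rfl⟩
    have := congrArg Subtype.val (IsKleinFour.mul_self (⟨w, hw⟩ : Subgroup.center P))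
    exact congrArg Subtype.val this
  have hZcen : ∀ z ∈ Z, ∀ p ∈ P, p * z = z * p := by
    rintro _ ⟨w, hw, rfl⟩ p hp
    exact congrArg Subtype.val (Subgroup.mem_center_iff.mp hw ⟨p, hp⟩)
  obtain ⟨σ, hσ⟩ := exists_prime_orderOf_dvd_card' (G := G) 5 (by rw [hG]; norm_num)
  have hσ5 : σ ^ 5 = 1 := hσ ▸ pow_orderOf_eq_one σ
  have hgen : P ⊔ Subgroup.zpowers σ = ⊤ := by
    apply Subgroup.eq_top_of_card_eq
    have h1 : Nat.card P ∣ Nat.card (P ⊔ Subgroup.zpowers σ : Subgroup G) := Subgroup.card_dvd_of_le le_sup_left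
    have h2 : Nat.card (Subgroup.zpowers σ) ∣ Nat.card (P ⊔ Subgroup.zpowers σ : Subgroup G) :=
      Subgroup.card_dvd_of_le le_sup_right
    rw [Nat.card_zpowers, hσ] at h2
    rw [hD] at h1
    rw [hG]
    exact Nat.dvd_antisymm (hG ▸ Subgroup.card_subgroup_dvd_card _)
      (show 320 ∣ _ from Nat.Coprime.mul_dvd_of_dvd_of_dvd (by norm_num : Nat.Coprime 64 5) h1 h2)
  -- the element of order five centralises `Z`
  have hσZ : ∀ z ∈ Z, σ * z = z * σ := by
    intro z hz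
    let f : Z → Z := fun w => ⟨σ * w * σ⁻¹, hZn.conj_mem _ w.2 σ⟩
    have := fixed_of_small f (fun w => Subtype.ext (by
      show σ * (σ * (σ * (σ * (σ * (w : G) * σ⁻¹) * σ⁻¹) * σ⁻¹) * σ⁻¹) * σ⁻¹ = w
      calc σ * (σ * (σ * (σ * (σ * (w : G) * σ⁻¹) * σ⁻¹) * σ⁻¹) * σ⁻¹) * σ⁻¹
          = σ ^ 5 * w * (σ ^ 5)⁻¹ := by simp only [pow_succ, pow_zero, one_mul, mul_inv_rev, mul_assoc]
        _ = w := by rw [hσ5]; simp)) (by omega) ⟨z, hz⟩
    exact mul_inv_eq_iff_eq_mul.mp (congrArg Subtype.val this)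
  have hZG : ∀ z ∈ Z, ∀ g : G, g * z = z * g := by
    intro z hz g
    have h : P ⊔ Subgroup.zpowers σ ≤ Subgroup.centralizer ({z} : Set G) :=
      sup_le (fun p hp => Subgroup.mem_centralizer_singleton_iff.mpr (hZcen z hz p hp))
        (Subgroup.zpowers_le.mpr (Subgroup.mem_centralizer_singleton_iff.mpr (hσZ z hz)))
    exact Subgroup.mem_centralizer_singleton_iff.mp (h (hgen ▸ Subgroup.mem_top g))
  -- the quotient by `Z`
  let q := QuotientGroup.mk' Z
  have hqs : Function.Surjective q := QuotientGroup.mk'_surjective Z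
  haveI : (P.map q).Normal := Subgroup.Normal.map inferInstance q hqs
  have hcardN : Nat.card (P.map q) = 16 := by
    have h := (q.subgroupMap P).ker.card_mul_index
    have hk : Nat.card (q.subgroupMap P).ker = 4 := by
      rw [← hZc]
      exact Nat.card_congr
        { toFun := fun x => ⟨((x : P) : G), (QuotientGroup.eq_one_iff _).mp (congrArg Subtype.val x.2)⟩
          invFun := fun z => ⟨⟨(z : G), hZP z.2⟩, Subtype.ext ((QuotientGroup.eq_one_iff _).mpr z.2)⟩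
          left_inv := fun x => rfl
          right_inv := fun z => rfl }
    rw [Subgroup.index_ker, hk, hD,
      MonoidHom.range_eq_top.mpr (q.subgroupMap_surjective P), Subgroup.card_top] at h
    omega
  obtain ⟨hfix, hsq, hab, hinv⟩ := sixteen (P.map q) (q σ) (by rw [← map_pow, hσ5, map_one]) hcardN
    (by rw [← MonoidHom.map_zpowers, ← Subgroup.map_sup, hgen, Subgroup.map_top_of_surjective q hqs])
    (by
      rw [hPdef, commutator_def, Subgroup.map_commutator, Subgroup.map_top_of_surjective q hqs,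
        commutator_def])
  have hq1 : ∀ x, q x = 1 ↔ x ∈ Z := fun x => QuotientGroup.eq_one_iff x
  -- choice of the generator
  obtain ⟨x, hxP, hxZ⟩ : ∃ x ∈ P, x ∉ Z := by
    by_contra h
    push Not at h
    have := Subgroup.card_le_of_le (show P ≤ Z from h)
    omega
  have hcj : ∀ (b : G), b ∈ P → ∀ i, cj b σ i ∈ P := by
    intro b hb i
    have hn : ∀ g h : G, g * h = 1 → g * b * h ∈ P := fun g h e => by
      rw [eq_inv_of_mul_eq_one_right e]; exact (inferInstance : P.Normal).conj_mem b hb g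
    have h5' : ∀ i j : Fin 5, ((i : ℕ) + j = 5) → fp σ i * fp σ j = 1 := fun i j e => by
      rw [fp_eq_pow, fp_eq_pow, ← pow_add, e, hσ5]
    fin_cases i
    · exact hb
    all_goals exact hn _ _ (h5' _ _ rfl)
  let e : G := (cj x σ 0 * cj x σ 1 * cj x σ 2 * cj x σ 3)⁻¹ * cj x σ 4
  have hshift : ∀ b : G, σ * cj b σ 0 * σ⁻¹ = cj b σ 1 ∧ σ * cj b σ 1 * σ⁻¹ = cj b σ 2 ∧
      σ * cj b σ 2 * σ⁻¹ = cj b σ 3 ∧ σ * cj b σ 3 * σ⁻¹ = cj b σ 4 ∧ σ * cj b σ 4 * σ⁻¹ = cj b σ 0 := by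
    intro b
    have hi : σ⁻¹ = σ ^ 4 := inv_eq_of_mul_eq_one_right (by rw [← pow_succ']; exact hσ5)
    have h5 : ∀ w, σ * (σ * (σ * (σ * (σ * w)))) = w := fun w => by
      calc σ * (σ * (σ * (σ * (σ * w)))) = σ ^ 5 * w := by simp only [pow_succ, pow_zero, one_mul, mul_assoc]
        _ = w := by rw [hσ5, one_mul]
    have h5' : σ * (σ * (σ * (σ * σ))) = 1 := by simpa [mul_assoc] using h5 1
    refine ⟨?_, ?_, ?_, ?_, ?_⟩
    all_goals
      simp only [cj, fp, hi, pow_succ, pow_zero, one_mul, mul_assoc, h5, h5', mul_one]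
  -- the product of an orbit is fixed
  have heZ : e ∈ Z := by
    have hm : ∀ i, q (cj x σ i) ∈ P.map q := fun i => ⟨_, hcj x hxP i, rfl⟩
    obtain ⟨s0, s1, s2, s3, s4⟩ := hshift x
    set u := q (cj x σ 0) * q (cj x σ 1) * q (cj x σ 2) * q (cj x σ 3) * q (cj x σ 4) with hu
    have huN : u ∈ P.map q := mul_mem (mul_mem (mul_mem (mul_mem (hm 0) (hm 1)) (hm 2)) (hm 3)) (hm 4)
    have : u = 1 := hfix u huN (by
      have : q σ * u * (q σ)⁻¹ = q (σ * cj x σ 0 * σ⁻¹) * q (σ * cj x σ 1 * σ⁻¹) *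
          q (σ * cj x σ 2 * σ⁻¹) * q (σ * cj x σ 3 * σ⁻¹) * q (σ * cj x σ 4 * σ⁻¹) := by
        simp only [hu, map_mul, map_inv]; group
      rw [this, s0, s1, s2, s3, s4, hu]
      have h' : ∀ i, ∀ w ∈ P.map q, q (cj x σ i) * w = w * q (cj x σ i) := fun i w hw => hab _ (hm i) w hw
      rw [h' 0 (q (cj x σ 1) * q (cj x σ 2) * q (cj x σ 3) * q (cj x σ 4))
        (mul_mem (mul_mem (mul_mem (hm 1) (hm 2)) (hm 3)) (hm 4)) |>.symm]
      simp only [mul_assoc])
    rw [← hq1]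
    have h4 : q (cj x σ 4) = q (cj x σ 0) * q (cj x σ 1) * q (cj x σ 2) * q (cj x σ 3) := by
      have h44 := hsq _ (hm 4)
      rw [hu, ← h44] at this
      exact (mul_right_cancel this).symm
    show q ((cj x σ 0 * cj x σ 1 * cj x σ 2 * cj x σ 3)⁻¹ * cj x σ 4) = 1
    rw [map_mul, map_inv, map_mul, map_mul, map_mul, h4, inv_mul_cancel]
  set a := x * e with ha
  have haP : a ∈ P := P.mul_mem hxP (hZP heZ)
  have ec : ∀ g : G, g * e = e * g := hZG e heZ
  have hcja : ∀ i, cj a σ i = cj x σ i * e := by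
    intro i
    have : ∀ g h : G, g * (x * e) * h = g * x * h * e := fun g h => by
      rw [mul_assoc g (x * e), mul_assoc x e h, ← ec h, mul_assoc (g * x) h, mul_assoc g x]
    fin_cases i
    · rfl
    all_goals exact this _ _
  obtain ⟨t0, t1, t2, t3, t4⟩ := hshift a
  set A0 := cj a σ 0 with hA0
  set A1 := cj a σ 1 with hA1
  set A2 := cj a σ 2 with hA2
  set A3 := cj a σ 3 with hA3
  set A4 := cj a σ 4 with hA4
  have hprod : A0 * A1 * A2 * A3 = A4 := by
    rw [hA0, hA1, hA2, hA3, hA4, hcja, hcja, hcja, hcja, hcja]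
    have he2 := hZ2 e heZ
    have hec : ∀ g w : G, e * (g * w) = g * (e * w) := fun g w => by
      rw [← mul_assoc, ← ec g, mul_assoc]
    set w := cj x σ 0 * cj x σ 1 * cj x σ 2 * cj x σ 3 with hw
    have h4 : cj x σ 4 = w * e := (mul_inv_cancel_left _ _).symm
    rw [h4, mul_assoc w e e, he2, mul_one, hw]
    simp only [mul_assoc, hec (cj x σ 1), hec (cj x σ 2), hec (cj x σ 3), he2, mul_one]
  -- squares and commutators
  have hA : ∀ i, cj a σ i ∈ P := hcj a haP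
  have hcz : ∀ u ∈ P, ∀ v ∈ P, (u * v)⁻¹ * (v * u) ∈ Z := fun u hu v hv => by
    rw [← hq1, map_mul, map_inv, map_mul, map_mul,
      hab (q v) ⟨v, hv, rfl⟩ (q u) ⟨u, hu, rfl⟩, inv_mul_cancel]
  have hsz : ∀ u ∈ P, u * u ∈ Z := fun u hu => by
    rw [← hq1, map_mul]; exact hsq _ ⟨u, hu, rfl⟩
  set z1 := (A0 * A1)⁻¹ * (A1 * A0) with hz1
  set z2 := (A0 * A2)⁻¹ * (A2 * A0) with hz2
  set ss := A0 * A0 with hss
  have m1 : z1 ∈ Z := hcz _ (hA 0) _ (hA 1)
  have m2 : z2 ∈ Z := hcz _ (hA 0) _ (hA 2)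
  have ms : ss ∈ Z := hsz _ (hA 0)
  have hconj : ∀ (u v u' v' z : G), z ∈ Z → σ * u * σ⁻¹ = u' → σ * v * σ⁻¹ = v' →
      v * u = u * v * z → v' * u' = u' * v' * z := by
    intro u v u' v' z hz hu hv h
    rw [← hu, ← hv, show σ * v * σ⁻¹ * (σ * u * σ⁻¹) = σ * (v * u) * σ⁻¹ by group, h,
      show σ * (u * v * z) * σ⁻¹ = σ * u * σ⁻¹ * (σ * v * σ⁻¹) * (σ * z * σ⁻¹) by group,
      hσZ z hz, mul_inv_cancel_right]
  have r10 : A1 * A0 = A0 * A1 * z1 := by rw [hz1, mul_inv_cancel_left]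
  have r21 := hconj _ _ _ _ _ m1 t0 t1 r10
  have r32 := hconj _ _ _ _ _ m1 t1 t2 r21
  have r20 : A2 * A0 = A0 * A2 * z2 := by rw [hz2, mul_inv_cancel_left]
  have r31 := hconj _ _ _ _ _ m2 t0 t2 r20
  have r42 := hconj _ _ _ _ _ m2 t1 t3 r31
  have r03 := hconj _ _ _ _ _ m2 t2 t4 r42
  have r30 : A3 * A0 = A0 * A3 * z2 := by
    rw [r03, mul_assoc (A3 * A0), hZ2 _ m2, mul_one]
  have hssq : ∀ u u', σ * u * σ⁻¹ = u' → u * u = ss → u' * u' = ss := by
    intro u u' hu h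
    rw [← hu, show σ * u * σ⁻¹ * (σ * u * σ⁻¹) = σ * (u * u) * σ⁻¹ by group, h, hσZ ss ms,
      mul_inv_cancel_right]
  have s1 := hssq _ _ t0 rfl
  have s2 := hssq _ _ t1 s1
  have s3 := hssq _ _ t2 s2
  have s4 := hssq _ _ t3 s3
  have T : ∀ {x y z : G}, x * y = z → ∀ w, x * (y * w) = z * w := fun h w => by rw [← mul_assoc, h]
  have hsq12 : (A0 * A1) * (A0 * A1) = z1 := by
    rw [show A0 * A1 * (A0 * A1) = A0 * (A1 * A0) * A1 by simp only [mul_assoc], r10]
    rw [show A0 * (A0 * A1 * z1) * A1 = ss * (A1 * (z1 * A1)) by simp only [hss, mul_assoc],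
      ← hZG z1 m1 A1, T s1, ← mul_assoc, hZ2 _ ms, one_mul]
  have hsq02 : (A0 * A2) * (A0 * A2) = z2 := by
    rw [show A0 * A2 * (A0 * A2) = A0 * (A2 * A0) * A2 by simp only [mul_assoc], r20]
    rw [show A0 * (A0 * A2 * z2) * A2 = ss * (A2 * (z2 * A2)) by simp only [hss, mul_assoc],
      ← hZG z2 m2 A2, T s2, ← mul_assoc, hZ2 _ ms, one_mul]
  have hss' : ss = z1 * z2 := by
    have hc : ∀ z ∈ Z, ∀ g w : G, z * (g * w) = g * (z * w) := fun z hz g w => by
      rw [← mul_assoc, ← hZG z hz g, mul_assoc]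
    conv_lhs => rw [← s4, ← hprod]
    have R10 : ∀ w, A1 * (A0 * w) = A0 * (A1 * (z1 * w)) := fun w => by rw [T r10]; simp only [mul_assoc]
    have R20 : ∀ w, A2 * (A0 * w) = A0 * (A2 * (z2 * w)) := fun w => by rw [T r20]; simp only [mul_assoc]
    have R30 : ∀ w, A3 * (A0 * w) = A0 * (A3 * (z2 * w)) := fun w => by rw [T r30]; simp only [mul_assoc]
    have R21 : ∀ w, A2 * (A1 * w) = A1 * (A2 * (z1 * w)) := fun w => by rw [T r21]; simp only [mul_assoc]
    have R31 : ∀ w, A3 * (A1 * w) = A1 * (A3 * (z2 * w)) := fun w => by rw [T r31]; simp only [mul_assoc]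
    have R32 : ∀ w, A3 * (A2 * w) = A2 * (A3 * (z1 * w)) := fun w => by rw [T r32]; simp only [mul_assoc]
    have S0 : ∀ w, A0 * (A0 * w) = ss * w := fun w => T rfl w
    have S1 : ∀ w, A1 * (A1 * w) = ss * w := fun w => T s1 w
    have S2 : ∀ w, A2 * (A2 * w) = ss * w := fun w => T s2 w
    have Q : ∀ z ∈ Z, ∀ w, z * (z * w) = w := fun z hz w => by rw [T (hZ2 z hz), one_mul]
    have S3 : ∀ w, A3 * (A3 * w) = ss * w := fun w => T s3 w
    have e1 : z1 * A3 = A3 * z1 := (hZG z1 m1 A3).symm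
    have e2 : z2 * A3 = A3 * z2 := (hZG z2 m2 A3).symm
    have e3 : ss * A3 = A3 * ss := (hZG ss ms A3).symm
    have e4 : ss * z1 = z1 * ss := (hZG ss ms z1).symm
    have e5 : ss * z2 = z2 * ss := (hZG ss ms z2).symm
    simp only [mul_assoc, R10, R20, R30, R21, R31, R32, S0, S1, S2, S3, s3, e1, e2, e3, e4, e5, hc z1 m1 A0, hc z1 m1 A1,
      hc z1 m1 A2, hc z1 m1 A3, hc z2 m2 A0, hc z2 m2 A1, hc z2 m2 A2, hc z2 m2 A3,
      hc ss ms A0, hc ss ms A1, hc ss ms A2, hc ss ms A3, hc ss ms z1, hc ss ms z2, hc z2 m2 z1,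
      Q z1 m1, Q z2 m2, Q ss ms, hZ2 ss ms, hZ2 z1 m1, hZ2 z2 m2, mul_one]
  have hg : Good a σ := by
    refine ⟨?_, ?_, ?_, ?_, ?_, ?_, ?_, ?_, hprod, ?_, ?_, ?_, ?_, ?_, ?_⟩ <;>
      (try simp only [cc1, cc2, ← hA0, ← hA1, ← hA2, ← hA3, hsq12, hsq02])
    · rw [fp_eq_pow, ← pow_succ']; exact hσ5
    · exact hss'
    · exact hZ2 _ m1
    · exact hZ2 _ m2
    · exact hσZ _ m1
    · exact hσZ _ m2
    · exact hZG _ m1 a
    · exact hZG _ m2 a
    · exact r10
    · exact r20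
    · exact r30
    · exact r21
    · exact r31
    · exact r32
  refine ⟨a, σ, hg, ?_⟩
  -- surjectivity
  let K : Subgroup G := Subgroup.closure ({a, σ} : Set G)
  have hKa : a ∈ K := Subgroup.subset_closure (by simp)
  have hKs : σ ∈ K := Subgroup.subset_closure (by simp)
  have hKrange : ∀ g ∈ K, ∀ v, ∃ w, g * nf a σ v = nf a σ w := by
    intro g hg'
    rw [← Subgroup.mem_toSubmonoid, Subgroup.closure_toSubmonoid_of_finite] at hg'
    induction hg' using Submonoid.closure_induction with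
    | mem y hy =>
      rcases hy with rfl | rfl
      · exact fun v => ⟨_, (left_mul hg v).1⟩
      · exact fun v => ⟨_, (left_mul hg v).2⟩
    | one => exact fun v => ⟨v, one_mul _⟩
    | mul u w _ _ hu hw =>
      intro v
      obtain ⟨v', hv'⟩ := hw v
      obtain ⟨v'', hv''⟩ := hu v'
      exact ⟨v'', by rw [mul_assoc, hv', hv'']⟩
  have hxa : q a = q x := by
    rw [ha, map_mul, (hq1 e).mpr heZ, mul_one]
  have hKN : (K ⊓ P).map q = P.map q := by
    refine hinv _ (Subgroup.map_mono inf_le_right) ⟨q a, ⟨a, ⟨hKa, haP⟩, rfl⟩, ?_⟩ ?_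
    · rw [hxa]; exact fun h => hxZ ((hq1 x).mp h)
    · rintro _ ⟨y, hy, rfl⟩
      exact ⟨σ * y * σ⁻¹, ⟨K.mul_mem (K.mul_mem hKs hy.1) (K.inv_mem hKs),
        (inferInstance : P.Normal).conj_mem y hy.2 σ⟩, by simp⟩
  have hKZ : ∀ g : G, ∃ k ∈ K, ∃ z ∈ Z, g = k * z := by
    have hPK : P ≤ K ⊔ Z := fun p hp => by
      obtain ⟨k, hk, hkp⟩ := hKN.ge ⟨p, hp, rfl⟩
      have : k⁻¹ * p ∈ Z := (hq1 _).mp (by rw [map_mul, map_inv, hkp, inv_mul_cancel])
      simpa using Subgroup.mul_mem_sup hk.1 this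
    intro g
    have hg' : g ∈ K ⊔ Z := (sup_le hPK ((Subgroup.zpowers_le.mpr hKs).trans le_sup_left))
      (hgen ▸ Subgroup.mem_top g)
    obtain ⟨k, hk, z, hz, e'⟩ := Subgroup.mem_sup_of_normal_right.mp hg'
    exact ⟨k, hk, z, hz, e'.symm⟩
  have hPle : P ≤ K := by
    rw [hPdef, commutator_eq_closure, Subgroup.closure_le]
    rintro _ ⟨g, h, rfl⟩
    obtain ⟨k, hk, z, hz, rfl⟩ := hKZ g
    obtain ⟨l, hl, w, hw, rfl⟩ := hKZ h
    have : ⁅k * z, l * w⁆ = ⁅k, l⁆ := by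
      simp only [commutatorElement_def, mul_inv_rev]
      calc k * z * (l * w) * (z⁻¹ * k⁻¹) * (w⁻¹ * l⁻¹)
          = k * (z * l) * (w * z⁻¹) * k⁻¹ * (w⁻¹ * l⁻¹) := by group
        _ = k * (l * z) * (z⁻¹ * w) * k⁻¹ * (w⁻¹ * l⁻¹) := by
          rw [hZG z hz l, hZG z⁻¹ (Z.inv_mem hz) w]
        _ = k * l * (w * k⁻¹) * (w⁻¹ * l⁻¹) := by group
        _ = k * l * (k⁻¹ * w) * (w⁻¹ * l⁻¹) := by rw [hZG w hw k⁻¹]
        _ = k * l * k⁻¹ * l⁻¹ := by group
    rw [this, commutatorElement_def]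
    exact K.mul_mem (K.mul_mem (K.mul_mem hk hl) (K.inv_mem hk)) (K.inv_mem hl)
  have hsurj : Function.Surjective (nf a σ) := by
    intro g
    have hgK : g ∈ K := (sup_le hPle (Subgroup.zpowers_le.mpr hKs)) (hgen ▸ Subgroup.mem_top g)
    obtain ⟨w, hw⟩ := hKrange g hgK n0
    exact ⟨w, by rw [← hw, nf_n0, mul_one]⟩
  exact hsurj.bijective_of_nat_card_le (by rw [hG]; simp [Nat.card_eq_fintype_card])

end CfsgLib.OrderThreeTwenty
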