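import Mathlib
import Cfsg.Agent.PrimeGraphU34.Field
import Cfsg.Agent.Unitary.Special
import Cfsg.Agent.OrderThreeTwenty.Normal
import Cfsg.Agent.OrderThreeTwenty.Data

/-!
The centraliser of an involution of `PSU₃(4)`.
-/

set_option autoImplicit false
set_option maxRecDepth 100000
set_option linter.unusedVariables false

open Matrix Cfsg.Agent.PrimeGraphU34

namespace CfsgLib.OrderThreeTwenty

section Map

variable {M M' : Type*} [Mul M] [One M] [Mul M'] [One M'] (f : M → M') (h1 : f 1 = 1)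
  (hm : ∀ x y, f (x * y) = f x * f y) (a s : M)

include h1 hm in
theorem map_fp : ∀ t, f (fp s t) = fp (f s) t := by
  intro t; fin_cases t <;> simp [fp, h1, hm]

include h1 hm in
theorem map_cj : ∀ i, f (cj a s i) = cj (f a) (f s) i := by
  intro i; fin_cases i <;> simp [cj, hm, map_fp f h1 hm]

include h1 hm in
theorem map_nf (v : N) : f (nf a s v) = nf (f a) (f s) v := by
  obtain ⟨⟨i, j, k, l, m, n⟩, t⟩ := v
  have hb : ∀ x b, f (bp x b) = bp (f x) b := fun x b => by cases b <;> simp [bp, h1]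
  simp only [nf, cc1, cc2, hm, hb, map_fp f h1 hm, map_cj f h1 hm]

include h1 hm in
theorem map_good (h : Good a s) : Good (f a) (f s) := by
  obtain ⟨e1, e2, e3, e4, e5, e6, e7, e8, e9, e10, e11, e12, e13, e14, e15⟩ := h
  refine ⟨?_, ?_, ?_, ?_, ?_, ?_, ?_, ?_, ?_, ?_, ?_, ?_, ?_, ?_, ?_⟩ <;>
    simp only [cc1, cc2, ← map_fp f h1 hm, ← map_cj f h1 hm, ← hm, ← h1] <;> congr 1

end Map

/-- Parameters `(r, x, z)`. -/
abbrev Tri := F16 × F16 × F16

/-- The condition on parameters. -/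
def Valid (t : Tri) : Prop := t.1 ^ 5 = 1 ∧ t.2.2 + t.2.2 ^ 4 = t.2.1 ^ 5

instance : DecidablePred Valid := fun t => by unfold Valid; infer_instance

/-- The product of parameters. -/
def tmul (s t : Tri) : Tri :=
  (s.1 * t.1, s.2.1 + s.1 ^ 3 * t.2.1, s.2.2 + t.2.2 + s.2.1 * (s.1 ^ 3 * t.2.1) ^ 4)

theorem pow16 : ∀ x : F16, x ^ 16 = x := by decide +kernel
theorem two16 : (2 : F16) = 0 := by decide +kernel

/-- The fourth power map. -/
def φ : F16 →+* F16 where
  toFun x := x ^ 4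
  map_one' := one_pow 4
  map_mul' x y := mul_pow x y 4
  map_zero' := by decide +kernel
  map_add' := F16.add_pow_four

theorem valid_tmul {s t : Tri} (hs : Valid s) (ht : Valid t) : Valid (tmul s t) := by
  obtain ⟨r, x, z⟩ := s
  obtain ⟨r', x', z'⟩ := t
  obtain ⟨hr, hz⟩ := hs
  obtain ⟨hr', hz'⟩ := ht
  simp only at hr hz hr' hz'
  refine ⟨?_, ?_⟩
  · show (r * r') ^ 5 = 1
    rw [mul_pow, hr, hr', one_mul]
  show z + z' + x * (r ^ 3 * x') ^ 4 + (z + z' + x * (r ^ 3 * x') ^ 4) ^ 4 = (x + r ^ 3 * x') ^ 5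
  have hy : ((r ^ 3 * x') ^ 4) ^ 4 = r ^ 3 * x' := by rw [← pow_mul]; exact pow16 _
  have hy5 : (r ^ 3 * x') ^ 5 = x' ^ 5 := by
    rw [mul_pow, ← pow_mul, show 3 * 5 = 5 * 3 by norm_num, pow_mul, hr, one_pow, one_mul]
  set y := r ^ 3 * x' with hy'
  clear_value y
  rw [pow_succ (x + y) 4, F16.add_pow_four (z + z'), F16.add_pow_four z, F16.add_pow_four x, mul_pow, hy]
  linear_combination hz + hz' - hy5

/-- The group of parameters, as a magma with one. -/
abbrev V3 := {t : Tri // Valid t}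

instance : Mul V3 := ⟨fun s t => ⟨tmul s.1 t.1, valid_tmul s.2 t.2⟩⟩
instance : One V3 := ⟨⟨(1, 0, 0), by decide +kernel, by decide +kernel⟩⟩

/-- The first generator. -/
def ga : V3 := ⟨(F16.of 1, F16.of 1, F16.of 4), by decide +kernel, by decide +kernel⟩
/-- The second generator. -/
def gs : V3 := ⟨(F16.of 8, F16.of 0, F16.of 0), by decide +kernel, by decide +kernel⟩

theorem good3 : Good ga gs := by
  refine ⟨?_, ?_, ?_, ?_, ?_, ?_, ?_, ?_, ?_, ?_, ?_, ?_, ?_, ?_, ?_⟩ <;> decide +kernel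

/-- Code of parameters. -/
def key (t : Tri) : Nat := t.1.val.val * 256 + t.2.1.val.val * 16 + t.2.2.val.val

/-- All indices. -/
def allN : List N :=
  [false, true].flatMap fun i => [false, true].flatMap fun j => [false, true].flatMap fun k =>
    [false, true].flatMap fun l => [false, true].flatMap fun m => [false, true].flatMap fun n =>
      (List.finRange 5).map fun t => ((i, j, k, l, m, n), t)

theorem mem_allN (v : N) : v ∈ allN := by
  obtain ⟨⟨i, j, k, l, m, n⟩, t⟩ := v
  cases i <;> cases j <;> cases k <;> cases l <;> cases m <;> cases n <;> simp [allN]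

theorem keys_eq : allN.map (fun v => key (nf ga gs v).1) = codes := by decide +kernel

theorem codes_nodup : codes.Nodup := by decide +kernel

theorem codes_complete : ∀ r x z : F16, Valid (r, x, z) → codes.contains (key (r, x, z)) = true := by
  decide +kernel

theorem key_inj {s t : Tri} (h : key s = key t) : s = t := by
  obtain ⟨⟨⟨r, hr⟩⟩, ⟨⟨x, hx⟩⟩, ⟨⟨z, hz⟩⟩⟩ := s
  obtain ⟨⟨⟨r', hr'⟩⟩, ⟨⟨x', hx'⟩⟩, ⟨⟨z', hz'⟩⟩⟩ := t
  simp only [key] at h
  obtain rfl : r = r' := by omega
  obtain rfl : x = x' := by omega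
  obtain rfl : z = z' := by omega
  rfl

theorem nf3_inj : Function.Injective (nf ga gs) := by
  intro v w h
  exact List.inj_on_of_nodup_map (keys_eq ▸ codes_nodup) (mem_allN v) (mem_allN w) (by rw [h])

theorem nf3_surj (t : V3) : ∃ v, nf ga gs v = t := by
  have := List.contains_iff_mem.mp (codes_complete t.1.1 t.1.2.1 t.1.2.2 t.2)
  rw [← keys_eq, List.mem_map] at this
  obtain ⟨v, -, hv⟩ := this
  exact ⟨v, Subtype.ext (key_inj hv)⟩

/-- The element in adapted coordinates. -/
def J3 (t : Tri) : Matrix (Fin 3) (Fin 3) F16 :=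
  !![t.1, t.2.1 * t.1 ^ 3, t.2.2 * t.1; 0, t.1 ^ 3, t.2.1 ^ 4 * t.1; 0, 0, t.1]

/-- The coordinate change. -/
def cP : Matrix (Fin 3) (Fin 3) F16 := !![1, 0, F16.of 2; 1, 0, F16.of 2 ^ 4; 0, 1, 0]
/-- Its inverse. -/
def cQ : Matrix (Fin 3) (Fin 3) F16 := !![F16.of 2 ^ 4, F16.of 2, 0; 0, 0, 1; 1, 1, 0]
/-- The adapted form. -/
def cJ : Matrix (Fin 3) (Fin 3) F16 := !![0, 0, 1; 0, 1, 0; 1, 0, 0]

theorem cQP : cQ * cP = 1 := by decide +kernel
theorem cPQ : cP * cQ = 1 := by decide +kernel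
theorem cPJ : cPᵀ * cP.map φ = cJ := by decide +kernel
theorem cQJ : cQᵀ * cJ * cQ.map φ = 1 := by decide +kernel

theorem J3_mul {s t : Tri} (hs : s.1 ^ 5 = 1) : J3 s * J3 t = J3 (tmul s t) := by
  obtain ⟨r, x, z⟩ := s
  obtain ⟨r', x', z'⟩ := t
  simp only at hs
  have two := two16
  ext i j
  fin_cases i <;> fin_cases j <;>
    simp [J3, tmul, Matrix.mul_apply, Fin.sum_univ_three, F16.add_pow_four] <;>
    first
      | ring1
      | linear_combination (-(x' * r * r' ^ 3)) * hs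
      | linear_combination (-(x * x' ^ 4 * r ^ 3 * r' * (r ^ 5 + 1) + 0)) * hs + (0 : F16) * two
      | linear_combination (-(r' * x' ^ 4 * r ^ 3 * (r ^ 5 + 1))) * hs

theorem J3_form {t : Tri} (ht : Valid t) : (J3 t)ᵀ * cJ * (J3 t).map φ = cJ := by
  obtain ⟨r, x, z⟩ := t
  obtain ⟨hr, hz⟩ := ht
  simp only at hr hz
  have h15 : r ^ 15 = 1 := by rw [show 15 = 5 * 3 by norm_num, pow_mul, hr, one_pow]
  have hx := pow16 x
  have two := two16
  ext i j
  fin_cases i <;> fin_cases j <;>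
    simp [J3, cJ, φ, Matrix.mul_apply, Fin.sum_univ_three] <;>
    first
      | ring1
      | linear_combination hr
      | linear_combination h15
      | linear_combination x ^ 4 * r ^ 13 * two + x ^ 4 * r ^ 3 * hr * 0
      | linear_combination (x ^ 4 * r ^ 13) * two + (x ^ 4 * r ^ 3 * (r^5+1)) * hr
      | linear_combination (r ^ 7) * hx + (x * r ^ 7) * two
      | linear_combination hz + (r ^ 5 * x ^ 4) * hx + (z + z ^ 4 + x ^ 5) * hr + x ^ 5 * two
      | linear_combination (z + z ^ 4 + x ^ 5) * hr + hz + (x ^ 4 * r ^ 5) * hx + x ^ 5 * two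

/-- The matrix of parameters. -/
def mat16 (t : Tri) : Matrix (Fin 3) (Fin 3) F16 := cP * J3 t * cQ

theorem mat16_form {t : Tri} (ht : Valid t) : (mat16 t)ᵀ * (mat16 t).map φ = 1 := by
  simp only [mat16, Matrix.transpose_mul, Matrix.map_mul]
  calc cQᵀ * ((J3 t)ᵀ * cPᵀ) * (cP.map φ * (J3 t).map φ * cQ.map φ)
      = cQᵀ * ((J3 t)ᵀ * (cPᵀ * cP.map φ) * (J3 t).map φ) * cQ.map φ := by simp only [mul_assoc]
    _ = 1 := by rw [cPJ, J3_form ht, cQJ]

theorem mat16_mul {s t : Tri} (hs : s.1 ^ 5 = 1) : mat16 s * mat16 t = mat16 (tmul s t) := by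
  simp only [mat16, ← J3_mul hs]
  calc cP * J3 s * cQ * (cP * J3 t * cQ) = cP * J3 s * (cQ * cP) * J3 t * cQ := by simp only [mul_assoc]
    _ = _ := by rw [cQP, mul_one]; simp only [mul_assoc]

theorem mat16_det {t : Tri} (ht : Valid t) : (mat16 t).det = 1 := by
  have h : cP.det * cQ.det = 1 := by rw [← Matrix.det_mul, cPQ, Matrix.det_one]
  have h' : (J3 t).det = 1 := by
    simp [J3, Matrix.det_fin_three]
    linear_combination ht.1
  rw [mat16, Matrix.det_mul, Matrix.det_mul, h', mul_one, h]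

/-- The involution in adapted coordinates. -/
def t0 : Tri := (1, 0, 1)

theorem t0_valid : Valid t0 := by decide +kernel

theorem commute_t0 {A : Matrix (Fin 3) (Fin 3) F16} (hc : A * J3 t0 = J3 t0 * A)
    (hf : Aᵀ * cJ * A.map φ = cJ) (hd : A.det = 1) : ∃ t, Valid t ∧ A = J3 t := by
  have two := two16
  have h00 := congrFun (congrFun hc 0) 0
  have h01 := congrFun (congrFun hc 0) 1
  have h02 := congrFun (congrFun hc 0) 2
  have h12 := congrFun (congrFun hc 1) 2
  simp [J3, t0, Matrix.mul_apply, Fin.sum_univ_three] at h00 h01 h02 h12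
  have e10 : A 1 0 = 0 := by linear_combination h12
  have e20 : A 2 0 = 0 := h00
  have e21 : A 2 1 = 0 := h01
  have e22 : A 2 2 = A 0 0 := by linear_combination -h02
  have f02 := congrFun (congrFun hf 0) 2
  have f11 := congrFun (congrFun hf 1) 1
  have f21 := congrFun (congrFun hf 2) 1
  have f22 := congrFun (congrFun hf 2) 2
  simp [cJ, φ, Matrix.mul_apply, Fin.sum_univ_three, e10, e20, e21, e22] at f02 f11 f21 f22
  rw [Matrix.det_fin_three, e10, e20, e21, e22] at hd
  simp at hd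
  set r := A 0 0 with hr'
  set a := A 0 1
  set b := A 0 2
  set m := A 1 1
  set c := A 1 2
  have hr : r ^ 5 = 1 := by linear_combination f02
  have hm : m = r ^ 3 := by linear_combination r ^ 3 * hd - m * hr
  have hc4 : c = r ^ 4 * a ^ 4 := by
    rw [hm] at f21
    linear_combination r ^ 3 * f21 - (c * r ^ 10 + c * r ^ 5 + c + a ^ 4 * r ^ 4 * 0) * hr - r ^ 4 * a ^ 4 * two
  refine ⟨(r, a * r ^ 2, b * r ^ 4), ⟨hr, ?_⟩, ?_⟩
  · show b * r ^ 4 + (b * r ^ 4) ^ 4 = (a * r ^ 2) ^ 5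
    have h16 := pow16 a
    rw [hc4] at f22
    linear_combination f22 - (a ^ 5) * (r ^ 15 + r ^ 10 + r ^ 5 + 1) * hr
      + (b ^ 4 * r * (r ^ 10 + r ^ 5 + 1)) * hr - a ^ 5 * (r ^ 5 + 1) * hr
      - a ^ 4 * r ^ 20 * h16 - a ^ 5 * two
  · ext i j
    fin_cases i <;> fin_cases j <;> simp [J3, e10, e20, e21, e22, ← hr']
    · linear_combination (-a) * hr
    · linear_combination (-b) * hr
    · exact hm
    · show c = (a * r ^ 2) ^ 4 * r
      linear_combination hc4 - a ^ 4 * r ^ 4 * hr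

section Transfer

variable {F : Type*} [Field F] [Fintype F]

theorem exists_psi (hF : Fintype.card F = 16) : Nonempty (F16 ≃+* F) := by
  exact ⟨FiniteField.ringEquivOfCardEq (by rw [hF]; convert F16.card_eq)⟩

theorem map_form (ψ : F16 ≃+* F) {A : Matrix (Fin 3) (Fin 3) F16} (h : Aᵀ * A.map φ = 1)
    (u v : Fin 3 → F) :
    Cfsg.hermForm 3 F 4 (A.map ψ *ᵥ u) (A.map ψ *ᵥ v) = Cfsg.hermForm 3 F 4 u v := by
  have h' : ∀ i j, ∑ k, ψ (A k i) * ψ (A k j) ^ 4 = if i = j then (1 : F) else 0 := by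
    intro i j
    have := congrArg ψ (congrFun (congrFun h i) j)
    simp only [Matrix.mul_apply, Matrix.transpose_apply, Matrix.map_apply, Matrix.one_apply,
      map_sum, map_mul] at this
    rw [apply_ite ψ, map_one, map_zero] at this
    simpa [φ, map_pow] using this
  have hadd : ∀ x y : F, (x + y) ^ 4 = x ^ 4 + y ^ 4 := by
    intro x y
    obtain ⟨x, rfl⟩ := ψ.surjective x
    obtain ⟨y, rfl⟩ := ψ.surjective y
    rw [← map_add, ← map_pow, F16.add_pow_four, map_add, map_pow, map_pow]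
  have h00 := h' 0 0; have h01 := h' 0 1; have h02 := h' 0 2
  have h10 := h' 1 0; have h11 := h' 1 1; have h12 := h' 1 2
  have h20 := h' 2 0; have h21 := h' 2 1; have h22 := h' 2 2
  simp [Fin.sum_univ_three] at h00 h01 h02 h10 h11 h12 h20 h21 h22
  simp only [Cfsg.hermForm, Matrix.mulVec, dotProduct, Fin.sum_univ_three, Matrix.map_apply, hadd,
    mul_pow]
  linear_combination (u 0 * v 0 ^ 4) * h00 + (u 0 * v 1 ^ 4) * h01 + (u 0 * v 2 ^ 4) * h02 +
    (u 1 * v 0 ^ 4) * h10 + (u 1 * v 1 ^ 4) * h11 + (u 1 * v 2 ^ 4) * h12 +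
    (u 2 * v 0 ^ 4) * h20 + (u 2 * v 1 ^ 4) * h21 + (u 2 * v 2 ^ 4) * h22

/-- The element of `SU₃(4)` with given parameters. -/
def elt (ψ : F16 ≃+* F) (t : V3) : Cfsg.SU 3 F 4 :=
  ⟨⟨(mat16 t.1).map ψ, by
    rw [show (mat16 t.1).map ψ = ψ.toRingHom.mapMatrix (mat16 t.1) from rfl, ← RingHom.map_det,
      mat16_det t.2, map_one]⟩,
    map_form ψ (mat16_form t.2)⟩

theorem elt_mul (ψ : F16 ≃+* F) (s t : V3) : elt ψ (s * t) = elt ψ s * elt ψ t := by
  apply Subtype.ext
  apply Subtype.ext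
  show (mat16 (tmul s.1 t.1)).map ψ = (mat16 s.1).map ψ * (mat16 t.1).map ψ
  rw [← mat16_mul s.2.1, Matrix.map_mul]

theorem elt_inj (ψ : F16 ≃+* F) : Function.Injective (elt ψ) := by
  intro s t h
  have h1 : (mat16 s.1).map ψ = (mat16 t.1).map ψ := congrArg (fun g : Cfsg.SU 3 F 4 => g.1.1) h
  have h2 : mat16 s.1 = mat16 t.1 := Matrix.map_injective ψ.injective h1
  have h3 : J3 s.1 = J3 t.1 := by
    have := congrArg (fun A => cQ * A * cP) h2
    simp only [mat16, ← mul_assoc, cQP, one_mul] at this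
    simpa only [mul_assoc, cQP, mul_one] using this
  have e := fun i j => congrFun (congrFun h3 i) j
  have r0 : s.1.1 ^ 5 = 1 := s.2.1
  have hr : s.1.1 = t.1.1 := e 0 0
  have hne : s.1.1 ≠ 0 := fun h0 => by rw [h0] at r0; simp at r0
  apply Subtype.ext
  refine Prod.ext hr (Prod.ext ?_ ?_)
  · have := e 0 1
    simp [J3, ← hr] at this
    exact this.resolve_right (fun h0 => hne h0)
  · have := e 0 2
    simp [J3, ← hr] at this
    exact this.resolve_right hne

theorem main (hF : Fintype.card F = 16) :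
    ∃ (a s : Cfsg.PSU 3 F 4) (t : Cfsg.PSU 3 F 4), orderOf t = 2 ∧ Good a s ∧
      Function.Injective (nf a s) ∧
      ∀ g, g ∈ Subgroup.centralizer ({t} : Set (Cfsg.PSU 3 F 4)) ↔ ∃ v, nf a s v = g := by
  obtain ⟨ψ⟩ := exists_psi hF
  let π := QuotientGroup.mk' (Subgroup.center (Cfsg.SU 3 F 4))
  haveI : Finite F := Finite.of_fintype F
  have hcen : ∀ g ∈ Subgroup.center (Cfsg.SU 3 F 4), g = 1 := by
    intro g hg
    obtain ⟨c, hc⟩ := (CfsgLib.Unitary.mem_center_SU_iff (F := F) (q := 4)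
      (by rw [Nat.card_eq_fintype_card, hF]; norm_num) (by omega)).1 hg
    have hd : c ^ 3 = 1 := by
      have := g.1.2
      rw [hc, Matrix.det_smul, Matrix.det_one] at this
      simpa using this
    have h5 : c * c ^ 4 = 1 := by
      have := g.2 (Pi.single 0 1) (Pi.single 0 1)
      change Cfsg.hermForm 3 F 4 (g.1.1 *ᵥ Pi.single 0 1) (g.1.1 *ᵥ Pi.single 0 1) = _ at this
      rw [hc] at this
      simpa [Cfsg.hermForm, Fin.sum_univ_three, Matrix.smul_mulVec] using this
    have c1 : c = 1 := by linear_combination (c ^ 3 + 1) * hd - c * h5 + (0 : F) * h5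
    exact Subtype.ext (Subtype.ext (by rw [hc, c1, one_smul]; rfl))
  have hπ : Function.Injective π := by
    rw [injective_iff_map_eq_one]
    exact fun g hg => hcen g ((QuotientGroup.eq_one_iff g).mp hg)
  let f : V3 → Cfsg.PSU 3 F 4 := fun t => π (elt ψ t)
  have hmul : ∀ x y, f (x * y) = f x * f y := fun x y => by simp only [f, elt_mul, map_mul]
  have hone : f 1 = 1 := by
    have h := hmul 1 1
    rw [show (1 : V3) * 1 = 1 from by decide +kernel] at h
    exact mul_eq_left.mp h.symm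
  have hfinj : Function.Injective f := hπ.comp (elt_inj ψ)
  let T : V3 := ⟨t0, t0_valid⟩
  have hTc : ∀ u : V3, u * T = T * u := by
    intro u
    obtain ⟨v, rfl⟩ := nf3_surj u
    revert v
    decide +kernel
  refine ⟨f ga, f gs, f T, ?_, map_good f hone hmul ga gs good3, ?_, fun g => ⟨fun hg => ?_, ?_⟩⟩
  · rw [orderOf_eq_prime_iff, sq, ← hmul, show T * T = 1 by decide +kernel, hone]
    refine ⟨rfl, fun h => ?_⟩
    have := hfinj (h.trans hone.symm)
    revert this
    decide +kernel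
  · intro v w h
    rw [← map_nf f hone hmul, ← map_nf f hone hmul] at h
    exact nf3_inj (hfinj h)
  · obtain ⟨g, rfl⟩ := QuotientGroup.mk'_surjective _ g
    have hgc : g * elt ψ T = elt ψ T * g := hπ (by
      rw [map_mul, map_mul]; exact Subgroup.mem_centralizer_singleton_iff.mp hg)
    set A : Matrix (Fin 3) (Fin 3) F16 := g.1.1.map ψ.symm with hA
    have hAψ : A.map ψ = g.1.1 := by ext i j; simp [hA]
    have hc1 : g.1.1 * (mat16 t0).map ψ = (mat16 t0).map ψ * g.1.1 :=
      congrArg (fun h : Cfsg.SU 3 F 4 => h.1.1) hgc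
    have hc2 : A * mat16 t0 = mat16 t0 * A :=
      Matrix.map_injective ψ.injective (by
        show (A * mat16 t0).map ψ = (mat16 t0 * A).map ψ
        rw [Matrix.map_mul, Matrix.map_mul, hAψ, hc1])
    have hd : A.det = 1 := ψ.injective (by
      rw [map_one, show ψ A.det = ψ.toRingHom A.det from rfl, RingHom.map_det]
      show (A.map ψ).det = 1
      rw [hAψ]; exact g.1.2)
    have hf : Aᵀ * A.map φ = 1 := by
      ext i j
      apply ψ.injective
      have := g.2 (Pi.single i 1) (Pi.single j 1)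
      change Cfsg.hermForm 3 F 4 (g.1.1 *ᵥ Pi.single i 1) (g.1.1 *ᵥ Pi.single j 1) = _ at this
      rw [← hAψ] at this
      simp [Cfsg.hermForm, Matrix.mulVec_single] at this
      simp only [Matrix.mul_apply, Matrix.transpose_apply, Matrix.map_apply, map_sum, map_mul]
      simp only [show ∀ w, φ w = w ^ 4 from fun w => rfl, map_pow]
      rw [this, Matrix.one_apply, apply_ite ψ, map_one, map_zero]
      by_cases e : i = j
      · subst e
        rw [Finset.sum_eq_single i (fun k _ hk => by simp [Pi.single_eq_of_ne hk]) (by simp)]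
        simp
      · rw [Finset.sum_eq_single i (fun k _ hk => by simp [Pi.single_eq_of_ne hk]) (by simp)]
        simp [Pi.single_eq_of_ne e, e]
    set B := cQ * A * cP with hB
    obtain ⟨t, ht, hBt⟩ := commute_t0 (A := B)
      (by
        have e := congrArg (fun M => cQ * M * cP) hc2
        simp only [mat16, mul_assoc, cQP, mul_one] at e
        simp only [← mul_assoc, cQP, one_mul] at e
        simpa only [hB, mul_assoc] using e)
      (by
        simp only [hB, Matrix.transpose_mul, Matrix.map_mul]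
        rw [← cPJ]
        calc cPᵀ * (Aᵀ * cQᵀ) * (cPᵀ * cP.map φ) * (cQ.map φ * A.map φ * cP.map φ)
            = cPᵀ * (Aᵀ * ((cP * cQ)ᵀ * (cP * cQ).map φ) * A.map φ) * cP.map φ := by
              simp only [Matrix.transpose_mul, Matrix.map_mul, mul_assoc]
          _ = cPᵀ * cP.map φ := by
              rw [cPQ, Matrix.transpose_one, Matrix.map_one φ (map_zero φ) (map_one φ), mul_one,
                mul_one, hf, mul_one])
      (by
        rw [hB, Matrix.det_mul, Matrix.det_mul, hd, mul_one, ← Matrix.det_mul, cQP, Matrix.det_one])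
    obtain ⟨v, hv⟩ := nf3_surj ⟨t, ht⟩
    refine ⟨v, ?_⟩
    rw [← map_nf f hone hmul, hv]
    show π (elt ψ ⟨t, ht⟩) = π g
    congr 1
    apply Subtype.ext
    apply Subtype.ext
    show (mat16 t).map ψ = g.1.1
    rw [mat16, ← hBt, hB]
    rw [show cP * (cQ * A * cP) * cQ = (cP * cQ) * A * (cP * cQ) by simp only [mul_assoc], cPQ,
      one_mul, mul_one, hAψ]
  · rintro ⟨v, rfl⟩
    rw [← map_nf f hone hmul]
    exact Subgroup.mem_centralizer_singleton_iff.mpr (by rw [← hmul, ← hmul, hTc])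

end Transfer

end CfsgLib.OrderThreeTwenty
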