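import Cfsg.Agent.OrderThreeTwenty.Group
import Cfsg.Agent.OrderThreeTwenty.Model

/-!
Groups of order 320 with derived subgroup of order 64 with four-group centre are involution
centralisers of `PSU₃(4)`.
-/

set_option autoImplicit false

namespace CfsgLib.OrderThreeTwenty

theorem iso_centralizer {G : Type*} [Group G] [Finite G] (hG : Nat.card G = 320)
    (hD : Nat.card (commutator G) = 64) (hZ : IsKleinFour (Subgroup.center (commutator G)))
    {F : Type*} [Field F] [Fintype F] (hF : Fintype.card F = 16) :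
    ∃ t : Cfsg.PSU 3 F 4, orderOf t = 2 ∧
      Nonempty (G ≃* Subgroup.centralizer ({t} : Set (Cfsg.PSU 3 F 4))) := by
  obtain ⟨a, s, hg, hb⟩ := exists_normal_form hG hD hZ
  obtain ⟨a', s', t, ht, hg', hi', hc⟩ := main (F := F) hF
  obtain ⟨φ, hφ, hr⟩ := exists_hom hg hg' hb hi'
  have e : φ.range = Subgroup.centralizer ({t} : Set (Cfsg.PSU 3 F 4)) := by
    ext x; rw [hr, hc]
  exact ⟨t, ht, ⟨(MonoidHom.ofInjective hφ).trans (MulEquiv.subgroupCongr e)⟩⟩

end CfsgLib.OrderThreeTwenty
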